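import Groth.Agent.SmoothSecLib.Basic
import Groth.Agent.S2155
import Groth.Agent.AModX.Res
import Mathlib.AlgebraicGeometry.Geometrically.Reduced

/-!
# Sections of a morphism with geometrically reduced fibres over étale neighbourhoods
-/

set_option autoImplicit false
set_option linter.style.haveILetI false
set_option backward.isDefEq.respectTransparency false
set_option backward.isDefEq.respectTransparency.types false

universe u

open CategoryTheory CategoryTheory.Limits AlgebraicGeometry TopologicalSpace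

namespace Groth.Agent.PicCurveSmooth

variable {X S : Scheme.{u}} (f : X ⟶ S) [Flat f] [LocallyOfFinitePresentation f] [GeometricallyReduced f]

theorem exists_mem_smoothLocus {s : S} (hs : s ∈ Set.range f) : ∃ x : X, x ∈ f.smoothLocus ∧ f x = s := by
  let K := AlgebraicClosure (S.residueField s)
  let g : Spec (CommRingCat.of K) ⟶ S :=
    Spec.map (CommRingCat.ofHom (algebraMap (S.residueField s) K)) ≫ S.fromSpecResidueField s
  have hg : ∀ p, g p = s := fun p => by
    rw [Scheme.Hom.comp_apply]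
    exact Scheme.fromSpecResidueField_apply _ _
  haveI : IsReduced (pullback f g) :=
    GeometricallyReduced.geometrically_isReduced (f := f) g _ _ (IsPullback.of_hasPullback f g)
  obtain ⟨x, hx⟩ := hs
  obtain ⟨z₀, -, -⟩ := Scheme.Pullback.exists_preimage_pullback (f := f) (g := g) x (IsLocalRing.closedPoint K)
    (hx.trans (hg _).symm)
  haveI : LocallyOfFinitePresentation (pullback.snd f g) := inferInstance
  obtain ⟨z, hz⟩ := (Scheme.Hom.dense_smoothLocus_of_perfectField (pullback.snd f g)).exists_mem_open isOpen_univ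
    ⟨z₀, trivial⟩
  rw [S2155.result f g (pullback.snd f g) (pullback.fst f g) (IsPullback.of_hasPullback f g) (.inl inferInstance)] at hz
  refine ⟨pullback.fst f g z, hz.1, ?_⟩
  rw [← Scheme.Hom.comp_apply, pullback.condition, Scheme.Hom.comp_apply, hg]

theorem smooth_smoothLocus_ι : Smooth (f.smoothLocus.ι ≫ f) := by
  rw [← Scheme.Hom.smoothLocus_eq_top_iff, ← Scheme.Hom.preimage_smoothLocus_eq]
  exact eq_top_iff.2 fun x _ => x.2

/-- Around every point of the image there is an étale affine neighbourhood over which there is a section. -/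
theorem exists_section_etale [Surjective f] (s : S) :
    ∃ (D : S.Opens) (S' : Scheme.{u}) (q : S' ⟶ (D : Scheme.{u})) (h : S' ⟶ X), s ∈ D ∧ IsAffineOpen D ∧
      IsAffine S' ∧ Etale q ∧ Surjective q ∧ h ≫ f = q ≫ D.ι := by
  obtain ⟨x, hxV, hxs⟩ := exists_mem_smoothLocus f (f.surjective s)
  haveI := smooth_smoothLocus_ι f
  obtain ⟨S₁, g, s₁, hS₁, hg, hgs, h₁, hh₁⟩ :=
    SmoothSecLib.exists_etale_section_scheme (f.smoothLocus.ι ≫ f) (⟨x, hxV⟩ : f.smoothLocus)
  have hgs' : g s₁ = s := hgs.trans hxs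
  obtain ⟨U, hU, hsU, -⟩ := exists_isAffineOpen_mem_and_subset (x := s) (U := ⊤) trivial
  obtain ⟨U₁, hU₁, hs₁U, hU₁le⟩ := exists_isAffineOpen_mem_and_subset (x := s₁) (U := g ⁻¹ᵁ U)
    (show g s₁ ∈ U from hgs'.symm ▸ hsU)
  let W : S.Opens := ⟨g '' (U₁ : Set S₁), g.isOpenMap _ U₁.2⟩
  have hW : s ∈ W := ⟨s₁, hs₁U, hgs'⟩
  obtain ⟨a, haW, hsa⟩ := hU.exists_basicOpen_le ⟨s, hW⟩ hsU
  let D : S.Opens := S.basicOpen a
  have hD : IsAffineOpen D := hU.basicOpen a
  let V : S₁.Opens := U₁ ⊓ g ⁻¹ᵁ D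
  have hV : IsAffineOpen V := by
    have : V = S₁.basicOpen (AModX.resR hU₁le (g.app U a)) := by
      show U₁ ⊓ g ⁻¹ᵁ S.basicOpen a = S₁.basicOpen (S₁.presheaf.map (homOfLE hU₁le).op (g.app U a))
      rw [Scheme.basicOpen_res, Scheme.preimage_basicOpen]
    rw [this]
    exact hU₁.basicOpen _
  have hr : Set.range (V.ι ≫ g) = (D : Set S) := by
    refine subset_antisymm ?_ fun d hd => ?_
    · rintro _ ⟨v, rfl⟩
      exact v.2.2
    · obtain ⟨v, hv, hvd⟩ := haW hd
      exact ⟨⟨v, hv, show g v ∈ D from hvd.symm ▸ hd⟩, hvd⟩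
  let q : (V : Scheme.{u}) ⟶ (D : Scheme.{u}) := IsOpenImmersion.lift D.ι (V.ι ≫ g) (by rw [D.range_ι, hr])
  have hq : q ≫ D.ι = V.ι ≫ g := IsOpenImmersion.lift_fac _ _ _
  haveI : Etale (q ≫ D.ι) := by rw [hq]; infer_instance
  haveI : Etale q := Etale.of_comp q D.ι
  refine ⟨D, V, q, V.ι ≫ h₁ ≫ f.smoothLocus.ι, hsa, hD, hV, inferInstance, ⟨fun d => ?_⟩, ?_⟩
  · obtain ⟨v, hv⟩ := hr.ge d.2
    refine ⟨v, D.ι.isOpenEmbedding.injective ?_⟩
    rw [← Scheme.Hom.comp_apply, hq]
    exact hv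
  · rw [hq, ← hh₁, Category.assoc, Category.assoc]

end Groth.Agent.PicCurveSmooth
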