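import Groth.Agent.S12404
import Groth.Agent.S19504
import Groth.Agent.DerBC7.H0Geom
import Groth.Agent.FibVanNN.TopDegree
import Groth.Agent.FibDim.BaseField
import Groth.Agent.UnitsSeq.Over
import Groth.Agent.BlowUpX.Projective
import Groth.Agent.LineDesc.RelPic
import Groth.Agent.PicClLib.Basic
import Groth.Prelude.Def_MoreMor

/-!
# Lifting classes on a relative curve along square-zero thickenings
-/

set_option autoImplicit false
set_option linter.style.haveILetI false
set_option backward.isDefEq.respectTransparency false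
set_option backward.isDefEq.respectTransparency.types false
set_option maxHeartbeats 1000000

universe u

open CategoryTheory CategoryTheory.Limits AlgebraicGeometry TopologicalSpace

namespace Groth.Agent.PicCurveSmooth

theorem dim_fiber_baseChange_le {X S T : Scheme.{u}} (f : X ⟶ S) [LocallyOfFiniteType f] (b : T ⟶ S) {d : ℕ}
    (hd : ∀ s : S, topologicalKrullDim ↥(f.fiber s) ≤ d) (t : T) :
    topologicalKrullDim ↥((pullback.snd f b).fiber t) ≤ d := by
  let q := pullback.snd f b
  let α : S.residueField (b t) ⟶ T.residueField t := b.residueFieldMap t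
  have sq : IsPullback (q.fiberι t ≫ pullback.fst f b) (q.fiberToSpecResidueField t) f
      (Spec.map α ≫ S.fromSpecResidueField (b t)) := by
    rw [b.SpecMap_residueFieldMap_fromSpecResidueField t]
    exact (IsPullback.of_hasPullback q (T.fromSpecResidueField t)).paste_horiz (IsPullback.of_hasPullback f b)
  let m : q.fiber t ⟶ f.fiber (b t) :=
    pullback.lift (q.fiberι t ≫ pullback.fst f b) (q.fiberToSpecResidueField t ≫ Spec.map α)
      (by rw [sq.w, Category.assoc])
  have hpb : IsPullback m (q.fiberToSpecResidueField t) (f.fiberToSpecResidueField (b t)) (Spec.map α) := by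
    refine IsPullback.of_right ?_ (pullback.lift_snd _ _ _) (IsPullback.of_hasPullback f _)
    rw [show m ≫ pullback.fst f (S.fromSpecResidueField (b t)) = q.fiberι t ≫ pullback.fst f b from
      pullback.lift_fst _ _ _]
    exact sq
  haveI : LocallyOfFiniteType (q.fiberToSpecResidueField t) := inferInstanceAs (LocallyOfFiniteType (pullback.snd _ _))
  haveI : LocallyOfFiniteType (f.fiberToSpecResidueField (b t)) := inferInstanceAs (LocallyOfFiniteType (pullback.snd _ _))
  haveI : Subsingleton ↥(Spec (S.residueField (b t))) := inferInstanceAs (Subsingleton (PrimeSpectrum _))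
  haveI : Subsingleton ↥(Spec (T.residueField t)) := inferInstanceAs (Subsingleton (PrimeSpectrum _))
  haveI : Nonempty ↥(Spec (T.residueField t)) := inferInstanceAs (Nonempty (PrimeSpectrum _))
  exact (FibDim.topologicalKrullDim_baseChange hpb).trans_le (hd _)

theorem mul_ker_eq_bot {X Z : Scheme.{u}} {A : Type u} [CommRing A] (I : Ideal A) (hI : I ^ 2 = ⊥)
    {p : X ⟶ Spec (CommRingCat.of A)} {i : Z ⟶ X} {q : Z ⟶ Spec (CommRingCat.of (A ⧸ I))} [IsClosedImmersion i]
    (h : IsPullback i q p (Spec.map (CommRingCat.ofHom (Ideal.Quotient.mk I)))) : i.ker * i.ker = ⊥ := by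
  refine Scheme.IdealSheafData.ext (funext fun V => ?_)
  rw [Scheme.IdealSheafData.ideal_mul, Scheme.IdealSheafData.ideal_bot]
  show i.ker.ideal V * i.ker.ideal V = ⊥
  have hk : i.ker.ideal V = I.map (UnitsSeq.sc p V.1) := by
    ext a
    rw [Scheme.Hom.ker_apply, RingHom.mem_ker,
      UnitsSeq.app_eq_zero_iff p (Ideal.Quotient.mk_surjective (I := I)) h V.2 a, CommRingCat.hom_ofHom, Ideal.mk_ker]
  rw [hk, ← Ideal.map_mul, ← pow_two, hI, Ideal.map_bot]

variable {X S : Scheme.{u}} (f : X ⟶ S) [IsProper f] [Flat f] [LocallyOfFinitePresentation f]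
  [GeometricallyReduced f] [GeometricallyConnected f]

theorem isIso_XTproj_app (T : Over S) (U : T.left.Opens) : IsIso ((PicF.XTproj f T).app U) :=
  DerBC7.isIso_app_of_geometric (pullback.snd f T.hom) (fun _ _ _ g =>
    ⟨GeometricallyReduced.geometrically_isReduced (f := pullback.snd f T.hom) g _ _ (IsPullback.of_hasPullback _ _),
      GeometricallyConnected.geometrically_connectedSpace (f := pullback.snd f T.hom) g _ _
        (IsPullback.of_hasPullback _ _)⟩) U

/-- The relative Picard scheme of a curve with a section is formally smooth. -/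
theorem isFormallySmoothHom_of_section (hd : ∀ s : S, topologicalKrullDim ↥(f.fiber s) ≤ (1 : ℕ))
    (σ : S ⟶ X) (hσ : σ ≫ f = 𝟙 S) (P : Over S) (φ : ∀ T : Over S, PicF.Cl (PicF.XT f T) → (T ⟶ P))
    (hP : AbDual.IsRelPicK Scheme.fppfPrecoverage f P φ) : MoreMor.IsFormallySmoothHom P.hom := by
  intro A _ I hI a b hab
  let j : Spec (CommRingCat.of (A ⧸ I)) ⟶ Spec (CommRingCat.of A) :=
    Spec.map (CommRingCat.ofHom (Ideal.Quotient.mk I))
  let T : Over S := Over.mk b
  let a' : AbDual.ovr T j ⟶ P := Over.homMk a hab.symm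
  obtain ⟨c, hc⟩ := (S12404.result f σ hσ (isIso_XTproj_app f) P φ hP (AbDual.ovr T j)).2 a'
  let i := PicF.XTmap f (AbDual.ovrHom T j)
  have hsq : IsPullback i (pullback.snd f (AbDual.ovr T j).hom) (pullback.snd f T.hom) j :=
    LineDesc.Rig.isPullback_XTmap (AbDual.ovrHom T j)
  haveI : IsClosedImmersion j := IsClosedImmersion.spec_of_surjective _ Ideal.Quotient.mk_surjective
  haveI : IsClosedImmersion i := MorphismProperty.of_isPullback (P := @IsClosedImmersion) hsq.flip inferInstance
  let J := i.ker
  have hJ : J * J = ⊥ := mul_ker_eq_bot I hI hsq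
  letI : (PicF.XT f T).Over (Spec (CommRingCat.of A)) := ⟨pullback.snd f T.hom⟩
  haveI : IsProper ((PicF.XT f T) ↘ Spec (CommRingCat.of A)) := inferInstanceAs (IsProper (pullback.snd f T.hom))
  have h2 : Subsingleton (Coh.HH (PicF.XT f T) (ClSub.idealMod J) 2) :=
    FibVanNN.subsingleton_HH_of_fibres (A := A) (d := 1) (fun t => dim_fiber_baseChange_le f T.hom hd t)
      (BlowUpX.isQCoh_idealMod J) one_lt_two
  have hcc : PicF.IsInvertibleCl (PicF.pullCl (inv i.toImage) c.1) := PicLoc.isInvertibleCl_pullCl _ c.2.1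
  obtain ⟨d, hdi, hde⟩ := S19504.result _ J hJ h2 (PicF.pullCl (inv i.toImage) c.1) hcc
  have hpull : PicF.pullCl i d = c.1 := by
    conv_lhs => rw [← i.toImage_imageι]
    rw [PicLoc.pullCl_comp, show PicF.pullCl i.imageι d = _ from hde, ← PicLoc.pullCl_comp, IsIso.hom_inv_id,
      PicLoc.pullCl_id]
  have key : AbDual.ovrHom T j ≫ φ T d = a' :=
    (hP.natural T _ _ d hdi).symm.trans ((congrArg (φ _) hpull).trans hc)
  exact ⟨(φ T d).left, congrArg CommaMorphism.left key, Over.w (φ T d)⟩

end Groth.Agent.PicCurveSmooth
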